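import Groth.Agent.Lib.ArInter.Tw
import Groth.Agent.Lib.CurveR1_10.Basic
import Groth.Agent.Lib.Curvette32.Degree
import Groth.Agent.S7624
import Groth.Agent.S0234

/-!
# The context of the exact sequence for the Picard group of the generic fibre
-/

set_option autoImplicit false
set_option linter.style.haveILetI false

universe u

open CategoryTheory CategoryTheory.Limits AlgebraicGeometry TopologicalSpace

namespace Groth.Agent.PicExact32

variable {R : Type u} [CommRing R] [IsDomain R] [IsDiscreteValuationRing R] {C X : Scheme.{u}}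
  {f : C ⟶ Spec (CommRingCat.of (FractionRing R))} {p : X ⟶ Spec (CommRingCat.of R)} {n : ℕ}
  {Γ : Fin n → ArSurf.VertComp R (Over.mk p)}

/-- The generic fibre of a model whose closed fibre components are curves is a curve. -/
theorem dim_eq_one [IsIntegral C] (hX : Models.IsRegularProperModel R X p C f)
    (hΓ : Models.IsComponentList R (Over.mk p) Γ) : topologicalKrullDim C = 1 := by
  haveI := hX.1.1
  haveI := hX.2.1
  haveI := ArInter.isIntegral_of_isModel' hX.1 hX.2.2
  obtain ⟨g, hg⟩ := hX.1.2.2.2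
  let c : Spec (CommRingCat.of R) := IsLocalRing.closedPoint R
  let γ : Spec (CommRingCat.of R) := (⟨⊥, Ideal.bot_prime⟩ : PrimeSpectrum R)
  have hK : Set.range (Spec.map (CommRingCat.ofHom (algebraMap R (FractionRing R)))) = ({γ} : Set _) := by
    ext z
    constructor
    · rintro ⟨w, rfl⟩
      apply PrimeSpectrum.ext
      show Ideal.comap (algebraMap R (FractionRing R)) w.asIdeal = ⊥
      rw [(Ideal.eq_bot_or_top w.asIdeal).resolve_right w.isPrime.ne_top]
      exact Ideal.comap_bot_of_injective _ (IsFractionRing.injective R (FractionRing R))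
    · intro hz
      obtain rfl : z = γ := hz
      exact ⟨(⊥ : PrimeSpectrum (FractionRing R)),
        PrimeSpectrum.ext (Ideal.comap_bot_of_injective _ (IsFractionRing.injective R (FractionRing R)))⟩
  have hrg : Set.range g = p ⁻¹' {γ} := by
    rw [← hg.isoPullback_hom_fst, Scheme.Hom.comp_base, TopCat.coe_comp, Set.range_comp,
      Set.range_eq_univ.mpr hg.isoPullback.hom.surjective, Set.image_univ, Scheme.Pullback.range_fst, hK]
  haveI : Surjective p := ⟨fun y => by
    have hcl : IsClosed (Set.range p) := p.isClosedMap.isClosed_range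
    have h1 : γ ∈ Set.range p := ⟨g (genericPoint C), hrg.le ⟨_, rfl⟩⟩
    exact ((PrimeSpectrum.le_iff_specializes γ y).1 bot_le).mem_closed hcl h1⟩
  obtain ⟨x, hx⟩ := p.surjective c
  let Z : Set ↥(p.fiber c) := irreducibleComponent ((p.fiberHomeo c).symm ⟨x, hx⟩)
  have hZ : Z ∈ irreducibleComponents ↥(p.fiber c) := irreducibleComponent_mem_irreducibleComponents _
  have hmem : (p.fiberι c) '' Z ∈ Models.fibreComponents R (Over.mk p) := by
    refine ⟨⟨hZ.1.image _ (p.fiberι c).continuous.continuousOn,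
      (Set.image_subset_range _ _).trans_eq (p.range_fiberι c)⟩, fun S hS hle => ?_⟩
    have hpre : IsPreirreducible ((p.fiberι c) ⁻¹' S) := by
      intro U V hU hV hSU hSV
      obtain ⟨U', hU', rfl⟩ := (p.fiberι c).isEmbedding.isInducing.isOpen_iff.1 hU
      obtain ⟨V', hV', rfl⟩ := (p.fiberι c).isEmbedding.isInducing.isOpen_iff.1 hV
      obtain ⟨a, ha, haU⟩ := hSU
      obtain ⟨b, hb, hbV⟩ := hSV
      obtain ⟨z, hz, hzUV⟩ := hS.1.2 U' V' hU' hV' ⟨_, ha, haU⟩ ⟨_, hb, hbV⟩
      obtain ⟨w, rfl⟩ : z ∈ Set.range (p.fiberι c) := (p.range_fiberι c).ge (hS.2 hz)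
      exact ⟨w, hz, hzUV⟩
    have hne : ((p.fiberι c) ⁻¹' S).Nonempty := by
      obtain ⟨a, ha⟩ := hZ.1.1
      exact ⟨a, hle ⟨a, ha, rfl⟩⟩
    have hle' : Z ⊆ (p.fiberι c) ⁻¹' S := fun a ha => hle ⟨a, ha, rfl⟩
    have heq : (p.fiberι c) ⁻¹' S ⊆ Z := hZ.2 ⟨hne, hpre⟩ hle'
    intro z hz
    obtain ⟨w, rfl⟩ : z ∈ Set.range (p.fiberι c) := (p.range_fiberι c).ge (hS.2 hz)
    exact ⟨w, heq hz, rfl⟩
  obtain ⟨i, hi⟩ := hΓ.2.ge hmem
  haveI := (Γ i).isClosedImmersion
  let e1 : (Γ i).curve.left ≃ₜ ↥((p.fiberι c) '' Z) :=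
    (Γ i).ι.isEmbedding.toHomeomorph.trans (.setCongr hi)
  let e2 : ↥Z ≃ₜ ↥((p.fiberι c) '' Z) := (p.fiberι c).isEmbedding.homeomorphImage Z
  let e3 : C ≃ₜ ↥(p.fiber γ) :=
    haveI := ArInter.isOpenImmersion_generic hg
    (g.isOpenEmbedding.isEmbedding.toHomeomorph.trans (.setCongr hrg)).trans (p.fiberHomeo γ).symm
  rw [IsHomeomorph.topologicalKrullDim_eq e3 e3.isHomeomorph, ← Groth.Agent.S7624.result R X p Z hZ,
    IsHomeomorph.topologicalKrullDim_eq e2 e2.isHomeomorph,
    ← IsHomeomorph.topologicalKrullDim_eq e1 e1.isHomeomorph]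
  exact (Γ i).dim_eq

end Groth.Agent.PicExact32

namespace Groth.Agent.PicExact32

variable {R : Type u} [CommRing R] [IsDomain R] [IsDiscreteValuationRing R] {C X : Scheme.{u}}
  {f : C ⟶ Spec (CommRingCat.of (FractionRing R))} {p : X ⟶ Spec (CommRingCat.of R)}

/-- An invertible module on the generic fibre of a regular model extends to the model. -/
theorem exists_extension (hX : Models.IsRegularProperModel R X p C f) {g : C ⟶ X}
    (hg : IsPullback g f p (Spec.map (CommRingCat.ofHom (algebraMap R (FractionRing R)))))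
    {N : C.Modules} (hN : PicF.IsInvertible N) :
    ∃ M : X.Modules, PicF.IsInvertible M ∧ Nonempty ((Scheme.Modules.pullback g).obj M ≅ N) := by
  haveI := hX.1.2.1
  haveI : IsLocallyNoetherian X := LocallyOfFiniteType.isLocallyNoetherian p
  haveI := ArInter.isOpenImmersion_generic hg
  let e : C ≅ (g.opensRange : Scheme.{u}) := g.isoOpensRange
  have he : e.hom ≫ g.opensRange.ι = g := g.isoOpensRange_hom_ι
  obtain ⟨M, hM, ⟨φ⟩⟩ := Groth.Agent.S0234.result X g.opensRange ((Scheme.Modules.pullback e.inv).obj N)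
    (PicLoc.isInvertible_pullback e.inv hN) fun x _ => by
      haveI := hX.2.2 x
      haveI := RegLoc.isDomain (X.presheaf.stalk x)
      exact RegLoc.ufd_of_isRegularLocalRing (X.presheaf.stalk x)
  refine ⟨M, hM, ⟨(Scheme.Modules.pullbackCongr he).symm.app M ≪≫
    (Scheme.Modules.pullbackComp e.hom g.opensRange.ι).symm.app M ≪≫
    (Scheme.Modules.pullback e.hom).mapIso
      ((Scheme.Modules.restrictFunctorIsoPullback g.opensRange.ι).symm.app M ≪≫ φ) ≪≫
    (Scheme.Modules.pullbackComp e.hom e.inv).app N ≪≫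
    (Scheme.Modules.pullbackCongr e.hom_inv_id).app N ≪≫ (Scheme.Modules.pullbackId C).app N⟩⟩

end Groth.Agent.PicExact32
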