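import Groth.Agent.Lib.PicExact32.Basic
import Groth.Agent.S3348
import Groth.Prelude.Def_PicGrp
import Mathlib.LinearAlgebra.Matrix.ToLin
import Mathlib.RingTheory.AdicCompletion.Basic
import Mathlib.FieldTheory.IsAlgClosed.Basic

/-!
# The exact sequence `0 → Pic⁰ X → Pic C → G → 0`
-/

set_option autoImplicit false
set_option linter.style.haveILetI false

universe u

open CategoryTheory CategoryTheory.Limits AlgebraicGeometry TopologicalSpace

namespace Groth.Agent.PicExact32

variable (R : Type u) [CommRing R] [IsDomain R] [IsDiscreteValuationRing R]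
  (C : Scheme.{u}) (fC : C ⟶ Spec (CommRingCat.of (FractionRing R))) [IsProper fC] [Smooth fC]
  (X : Scheme.{u}) (p : X ⟶ Spec (CommRingCat.of R))
  {n : ℕ} (Γ : Fin n → ArSurf.VertComp R (Over.mk p)) (LD : Fin n → X.Modules)

/-- The component group. -/
abbrev Grp : Type :=
  (Fin n → ℤ) ⧸ LinearMap.range (Matrix.mulVecLin
    (Matrix.of fun j i => ArSurf.inter R (Over.mk p) (LD i) (Γ j)))

variable {R C fC X p Γ LD}

theorem mk_eq_mk_iff {a b : Fin n → ℤ} :
    (Submodule.Quotient.mk a : Grp R X p Γ LD) = Submodule.Quotient.mk b ↔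
      ∃ v : Fin n → ℤ, ∀ j, a j - b j = ∑ i, ArSurf.inter R (Over.mk p) (LD i) (Γ j) * v i := by
  rw [Submodule.Quotient.eq, LinearMap.mem_range]
  refine exists_congr fun v => ⟨fun h j => (congrFun h j).symm, fun h => funext fun j => (h j).symm⟩

theorem ctx (hC0 : Models.hRank (FractionRing R) C fC (Coh.structureModule C) 0 = 1)
    (hX : Models.IsRegularProperModel R X p C fC) (hΓ : Models.IsComponentList R (Over.mk p) Γ)
    (hLD : ∀ i, ClSub.IsInverseOf (LD i) (ClSub.idealMod (Γ i).ι.ker)) :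
    ArInter.Ctx R C X fC p Γ LD := by
  have hbij := CurveR1_10.bijective_appTop_of_hRank fC hC0
  haveI := ArInter.isIntegral_of_smooth_constants fC hbij
  exact ⟨⟨inferInstance, inferInstance, inferInstance, dim_eq_one hX hΓ⟩,
    (ConcreteCategory.isIso_iff_bijective _).2 hbij, hX, hΓ, hLD⟩

theorem pullHom_eq_cls_iff [PicGrp.Law X] [PicGrp.Law C] {g : C ⟶ X} (hgm : PicGrp.PullMul g) {M : X.Modules}
    (hM : PicF.IsInvertible M) {N : C.Modules} (hN : PicF.IsInvertible N) :
    PicGrp.pullHom g hgm (PicGrp.cls M hM) = PicGrp.cls N hN ↔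
      Nonempty ((Scheme.Modules.pullback g).obj M ≅ N) := by
  rw [PicGrp.pullHom_cls, PicGrp.cls_eq_cls_iff]

/-- Every class on the generic fibre is a restriction. -/
theorem exists_pull_eq (hX : Models.IsRegularProperModel R X p C fC) [PicGrp.Law X] [PicGrp.Law C] {g : C ⟶ X}
    (hg : IsPullback g fC p (Spec.map (CommRingCat.ofHom (algebraMap R (FractionRing R)))))
    (hgm : PicGrp.PullMul g) (c : PicLoc.PicSet C) :
    ∃ (M : X.Modules) (hM : PicF.IsInvertible M), PicGrp.pullHom g hgm (PicGrp.cls M hM) = c := by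
  obtain ⟨N, hN, rfl⟩ := PicGrp.exists_eq_cls c
  obtain ⟨M, hM, e⟩ := exists_extension hX hg hN
  exact ⟨M, hM, (pullHom_eq_cls_iff hgm hM hN).2 e⟩

/-- Two extensions have the same image in the component group. -/
theorem deg_well_defined (c : ArInter.Ctx R C X fC p Γ LD) [PicGrp.Law X] [PicGrp.Law C] {g : C ⟶ X}
    (hg : IsPullback g fC p (Spec.map (CommRingCat.ofHom (algebraMap R (FractionRing R)))))
    (hgm : PicGrp.PullMul g) {M M' : X.Modules} (hM : PicF.IsInvertible M) (hM' : PicF.IsInvertible M')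
    (h : PicGrp.pullHom g hgm (PicGrp.cls M hM) = PicGrp.pullHom g hgm (PicGrp.cls M' hM')) :
    (Submodule.Quotient.mk (fun j => ArSurf.inter R (Over.mk p) M (Γ j)) : Grp R X p Γ LD) =
      Submodule.Quotient.mk (fun j => ArSurf.inter R (Over.mk p) M' (Γ j)) := by
  rw [PicGrp.pullHom_cls, PicGrp.pullHom_cls, PicGrp.cls_eq_cls_iff] at h
  obtain ⟨v, T, hT, hTv, ⟨e⟩⟩ := c.exists_rep_quot hg hM' hM h
  refine mk_eq_mk_iff.2 ⟨v, fun j => ?_⟩
  rw [c.inter_iso (Γ j) hM e, c.inter_tensor (Γ j) hM' hT, c.inter_rep (Γ j) hT hTv, add_sub_cancel_left]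
  exact Finset.sum_congr rfl fun i _ => mul_comm _ _

/-- A class of degree zero everywhere and trivial on the generic fibre is trivial. -/
theorem eq_one_of_trivial (c : ArInter.Ctx R C X fC p Γ LD) (hgcd : Models.multGcd R (Over.mk p) Γ = 1)
    [PicGrp.Law X] [PicGrp.Law C] {g : C ⟶ X}
    (hg : IsPullback g fC p (Spec.map (CommRingCat.ofHom (algebraMap R (FractionRing R)))))
    (hgm : PicGrp.PullMul g) {L : X.Modules} (hL : PicF.IsInvertible L)
    (hdeg : ∀ j, ArSurf.inter R (Over.mk p) L (Γ j) = 0)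
    (htriv : PicGrp.pullHom g hgm (PicGrp.cls L hL) = 1) : PicGrp.cls L hL = 1 := by
  rw [PicGrp.pullHom_cls, PicGrp.cls_eq_one_iff] at htriv
  obtain ⟨v, hv⟩ := c.exists_rep_of_trivial hg hL htriv
  obtain ⟨q, hq⟩ := c.prop_of_degree_zero fun i => (c.inter_rep (Γ i) hL hv).symm.trans (hdeg i)
  obtain ⟨k, hk⟩ := c.exists_int_of_prop hq
  rw [PicGrp.cls_eq_one_iff, c.trivial_iff hv]
  exact ⟨k, fun i => by simpa [hgcd] using hk i⟩

variable [IsAdicComplete (IsLocalRing.maximalIdeal R) R]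

theorem exact_sequence (hk : IsAlgClosed (IsLocalRing.ResidueField R))
    (c : ArInter.Ctx R C X fC p Γ LD) [PicGrp.Law X] [PicGrp.Law C] {g : C ⟶ X}
    (hg : IsPullback g fC p (Spec.map (CommRingCat.ofHom (algebraMap R (FractionRing R)))))
    (hgm : PicGrp.PullMul g) :
    ∃ ψ : Additive (PicLoc.PicSet C) →+ Grp R X p Γ LD,
      (∀ (L : X.Modules) (hL : PicF.IsInvertible L),
          ψ (Additive.ofMul (PicGrp.pullHom g hgm (PicGrp.cls L hL))) =
            Submodule.Quotient.mk (fun j => ArSurf.inter R (Over.mk p) L (Γ j))) ∧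
        Function.Surjective ψ ∧
        (∀ a : PicLoc.PicSet C, ψ (Additive.ofMul a) = 0 →
          ∃ (L : X.Modules) (hL : PicF.IsInvertible L),
            (∀ j, ArSurf.inter R (Over.mk p) L (Γ j) = 0) ∧ PicGrp.pullHom g hgm (PicGrp.cls L hL) = a) := by
  classical
  choose ext hext heq using exists_pull_eq c.hX hg hgm
  let D : Additive (PicLoc.PicSet C) → Grp R X p Γ LD := fun a =>
    Submodule.Quotient.mk (fun j => ArSurf.inter R (Over.mk p) (ext a.toMul) (Γ j))
  have hD : ∀ (L : X.Modules) (hL : PicF.IsInvertible L),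
      D (Additive.ofMul (PicGrp.pullHom g hgm (PicGrp.cls L hL))) =
        Submodule.Quotient.mk (fun j => ArSurf.inter R (Over.mk p) L (Γ j)) := fun L hL =>
    deg_well_defined c hg hgm (hext _) hL (heq _)
  have hadd : ∀ a b, D (a + b) = D a + D b := fun a b => by
    have hT := M2.isInvertible_tensor (hext a.toMul) (hext b.toMul)
    have h1 : PicGrp.cls _ hT = PicGrp.cls _ (hext a.toMul) * PicGrp.cls _ (hext b.toMul) :=
      Subtype.ext ((PicGrp.cls_mul_cls_val (hext a.toMul) (hext b.toMul)).symm)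
    have h2 : PicGrp.pullHom g hgm (PicGrp.cls _ hT) = (a + b).toMul := by
      rw [h1, map_mul, heq, heq]; rfl
    show D (a + b) = _
    rw [← (ofMul_toMul (a + b)), ← h2, hD _ hT, ← Submodule.Quotient.mk_add]
    exact congrArg Submodule.Quotient.mk (funext fun j => c.inter_tensor (Γ j) (hext a.toMul) (hext b.toMul))
  refine ⟨AddMonoidHom.mk' D hadd, hD, ?_, fun a ha => ?_⟩
  · intro γ
    obtain ⟨w, rfl⟩ := Submodule.Quotient.mk_surjective _ γ
    haveI := hk
    haveI : HenselianRing R (IsLocalRing.maximalIdeal R) := inferInstance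
    haveI : HenselianLocalRing R :=
      { is_henselian := fun h hm a ha hd =>
          HenselianRing.is_henselian (I := IsLocalRing.maximalIdeal R) h hm a ha (hd.map (Ideal.Quotient.mk _)) }
    haveI := c.hC.2.2.1
    choose M hM hdelta using fun i => Curvette.exists_invertible_delta
      ⟨c.hX.2.1, ArInter.isIntegral_of_isModel' c.hX.1 c.hX.2.2, c.hX.1.1⟩ c.hX.2.2 c.hΓ i
    refine ⟨∑ i, w i • Additive.ofMul (PicGrp.pullHom g hgm (PicGrp.cls (M i) (hM i))), ?_⟩
    rw [map_sum]
    simp only [map_zsmul, AddMonoidHom.mk'_apply, hD]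
    simp only [← Submodule.Quotient.mk_smul]
    rw [← Submodule.mkQ_apply, ]
    simp only [← Submodule.mkQ_apply, ← map_sum]
    refine congrArg _ (funext fun j => ?_)
    simp [hdelta, Finset.sum_apply]
  · obtain ⟨M, hM, rfl⟩ : ∃ (M : X.Modules) (hM : PicF.IsInvertible M),
        PicGrp.pullHom g hgm (PicGrp.cls M hM) = a := exists_pull_eq c.hX hg hgm a
    have h0 : (Submodule.Quotient.mk (fun j => ArSurf.inter R (Over.mk p) M (Γ j)) : Grp R X p Γ LD) =
        Submodule.Quotient.mk 0 := ((hD M hM).symm.trans ha).trans (Submodule.Quotient.mk_zero _).symm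
    obtain ⟨v, hv⟩ := mk_eq_mk_iff.1 h0
    obtain ⟨M', hM', e, hdeg⟩ := (Groth.Agent.S3348.result R C X fC p c.hC c.hH0 c.hX Γ c.hΓ g hg LD c.hL _
      (PicLoc.isInvertible_pullback g hM) M hM ⟨Iso.refl _⟩).1 ⟨v, fun i => by simpa using hv i⟩
    refine ⟨M', hM', hdeg, ?_⟩
    rw [PicGrp.pullHom_cls g hgm M hM]
    exact (pullHom_eq_cls_iff hgm hM' _).2 e

end Groth.Agent.PicExact32
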